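import Mathlib

/-!
Gluing two subrings `A`, `B` of a field `K` along `A ⊓ B`. Author: helper54.
-/

set_option autoImplicit false
universe u

open CategoryTheory AlgebraicGeometry

namespace Groth.GlueRings

variable {K : Type u} [Field K]

/-- An inclusion of subrings of a field is a localization away from `w` as soon as `w` becomes
invertible and every element is brought into the small ring by a power of `w`. -/
lemma isLocalizationAway {S T : Subring K} (h : S ≤ T) (w : S)
    (hw : IsUnit (Subring.inclusion h w)) (hx : ∀ x ∈ T, ∃ N : ℕ, x * (w : K) ^ N ∈ S) :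
    letI := (Subring.inclusion h).toAlgebra
    IsLocalization.Away w T := by
  let := (Subring.inclusion h).toAlgebra
  refine IsLocalization.Away.mk w hw (fun z => ?_) (fun a b hab => ⟨0, ?_⟩)
  · obtain ⟨N, hN⟩ := hx z z.2
    exact ⟨N, ⟨_, hN⟩, Subtype.ext (by simp [RingHom.algebraMap_toAlgebra])⟩
  · have : a = b := Subring.inclusion_injective h hab
    rw [this]

lemma isLocalizationAway_subtype {S : Subring K} (w : S) (hw : (w : K) ≠ 0)
    (hx : ∀ x : K, ∃ N : ℕ, x * (w : K) ^ N ∈ S) :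
    letI := S.subtype.toAlgebra
    IsLocalization.Away w K := by
  let := S.subtype.toAlgebra
  refine IsLocalization.Away.mk w (isUnit_iff_ne_zero.mpr hw) (fun z => ?_)
    (fun a b hab => ⟨0, ?_⟩)
  · obtain ⟨N, hN⟩ := hx z
    exact ⟨N, ⟨_, hN⟩, by simp [RingHom.algebraMap_toAlgebra]⟩
  · have : a = b := Subtype.ext hab
    rw [this]

/-- If `w` cuts out `A` and `t` cuts out `B` in `A ⊓ B`, with `w + t` invertible in both, then
`Spec A` and `Spec B` glue to `Spec (A ⊓ B)`. -/
theorem glue (A B : Subring K) (w t : K) (hw0 : w ≠ 0)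
    (hwA : w ∈ A) (hwB : w ∈ B) (htA : t ∈ A) (htB : t ∈ B)
    (hwu : IsUnit (⟨w, hwA⟩ : A)) (htu : IsUnit (⟨t, htB⟩ : B))
    (hsA : IsUnit ((⟨w, hwA⟩ : A) + ⟨t, htA⟩)) (hsB : IsUnit ((⟨w, hwB⟩ : B) + ⟨t, htB⟩))
    (hxw : ∀ x : K, ∃ N : ℕ, x * w ^ N ∈ B) (hxt : ∀ x : K, ∃ N : ℕ, x * t ^ N ∈ A) :
    IsOpenImmersion (Spec.map (CommRingCat.ofHom (Subring.inclusion (inf_le_left : A ⊓ B ≤ A)))) ∧
      IsOpenImmersion (Spec.map (CommRingCat.ofHom (Subring.inclusion (inf_le_right : A ⊓ B ≤ B)))) ∧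
      Set.range (Spec.map (CommRingCat.ofHom (Subring.inclusion (inf_le_left : A ⊓ B ≤ A)))).base ∪
        Set.range (Spec.map (CommRingCat.ofHom (Subring.inclusion (inf_le_right : A ⊓ B ≤ B)))).base
          = Set.univ ∧
      IsPushout (CommRingCat.ofHom (Subring.inclusion (inf_le_left : A ⊓ B ≤ A)))
        (CommRingCat.ofHom (Subring.inclusion (inf_le_right : A ⊓ B ≤ B)))
        (CommRingCat.ofHom A.subtype) (CommRingCat.ofHom B.subtype) := by
  let w₀ : ↥(A ⊓ B) := ⟨w, hwA, hwB⟩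
  let t₀ : ↥(A ⊓ B) := ⟨t, htA, htB⟩
  let : Algebra ↥(A ⊓ B) A := (Subring.inclusion (inf_le_left : A ⊓ B ≤ A)).toAlgebra
  let : Algebra ↥(A ⊓ B) B := (Subring.inclusion (inf_le_right : A ⊓ B ≤ B)).toAlgebra
  have hA : IsLocalization.Away w₀ A := isLocalizationAway inf_le_left w₀ hwu fun x hx => by
    obtain ⟨N, hN⟩ := hxw x
    exact ⟨N, mul_mem hx (pow_mem hwA N), hN⟩
  have hB : IsLocalization.Away t₀ B := isLocalizationAway inf_le_right t₀ htu fun x hx => by
    obtain ⟨N, hN⟩ := hxt x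
    exact ⟨N, hN, mul_mem hx (pow_mem htB N)⟩
  have hopA : IsOpenImmersion
      (Spec.map (CommRingCat.ofHom (Subring.inclusion (inf_le_left : A ⊓ B ≤ A)))) :=
    IsOpenImmersion.of_isLocalization (R := ↥(A ⊓ B)) (S := A) w₀
  have hopB : IsOpenImmersion
      (Spec.map (CommRingCat.ofHom (Subring.inclusion (inf_le_right : A ⊓ B ≤ B)))) :=
    IsOpenImmersion.of_isLocalization (R := ↥(A ⊓ B)) (S := B) t₀
  refine ⟨hopA, hopB, ?_, ?_⟩
  · have hsum : IsUnit (w₀ + t₀) := by
      obtain ⟨a, ha⟩ := isUnit_iff_exists_inv.mp hsA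
      obtain ⟨b, hb⟩ := isUnit_iff_exists_inv.mp hsB
      have ha' : (w + t) * (a : K) = 1 := congrArg Subtype.val ha
      have hb' : (w + t) * (b : K) = 1 := congrArg Subtype.val hb
      have hab : (a : K) = b := mul_left_cancel₀ (left_ne_zero_of_mul_eq_one ha') (ha'.trans hb'.symm)
      exact isUnit_iff_exists_inv.mpr
        ⟨⟨(a : K), a.2, hab ▸ b.2⟩, Subtype.ext ha'⟩
    have hrA : Set.range (Spec.map (CommRingCat.ofHom
        (Subring.inclusion (inf_le_left : A ⊓ B ≤ A)))).base = (PrimeSpectrum.basicOpen w₀ : Set (PrimeSpectrum ↥(A ⊓ B))) :=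
      PrimeSpectrum.localization_away_comap_range A w₀
    have hrB : Set.range (Spec.map (CommRingCat.ofHom
        (Subring.inclusion (inf_le_right : A ⊓ B ≤ B)))).base = (PrimeSpectrum.basicOpen t₀ : Set (PrimeSpectrum ↥(A ⊓ B))) :=
      PrimeSpectrum.localization_away_comap_range B t₀
    rw [hrA, hrB, Set.eq_univ_iff_forall]
    intro p
    by_contra hp
    exact p.isPrime.ne_top (Ideal.eq_top_of_isUnit_mem _ (add_mem
      (not_not.mp fun h => hp (Or.inl h) : w₀ ∈ p.asIdeal)
      (not_not.mp fun h => hp (Or.inr h) : t₀ ∈ p.asIdeal)) hsum)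
  · let : Algebra B K := B.subtype.toAlgebra
    have : IsLocalization ((Submonoid.powers w₀).map
        (Subring.inclusion (inf_le_right : A ⊓ B ≤ B))) K := by
      rw [Submonoid.map_powers]
      exact isLocalizationAway_subtype (Subring.inclusion inf_le_right w₀) hw0 hxw
    exact (CommRingCat.isPushout_of_isLocalization
      (Subring.inclusion (inf_le_right : A ⊓ B ≤ B)) A.subtype (RingHom.ext fun _ => rfl)
      (Submonoid.powers w₀)).flip

end Groth.GlueRings
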