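import Mathlib

/-! Valuation subring and one-dimensional subring lemmas. Author: helper54. -/

set_option autoImplicit false
universe u

namespace Groth.GlueRings

variable {K : Type u} [Field K]

lemma mem_max_of_not_mem (B : ValuationSubring K) {a : K} (ha : a ∉ B) :
    a⁻¹ ∈ B.nonunits := by
  rw [ValuationSubring.mem_nonunits_iff_exists_mem_maximalIdeal]
  refine ⟨(B.mem_or_inv_mem a).resolve_left ha, ?_⟩
  rw [IsLocalRing.mem_maximalIdeal]
  intro h
  obtain ⟨b, hb⟩ := isUnit_iff_exists_inv.mp h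
  have hb' : a⁻¹ * (b : K) = 1 := congrArg Subtype.val hb
  exact ha (by rw [← inv_inv a, inv_eq_of_mul_eq_one_right hb']; exact b.2)

/-- If `b * a⁻¹` is a nonunit and `a` is outside, then so is `a + b`. -/
lemma add_not_mem (B : ValuationSubring K) {a b : K} (ha : a ∉ B) (hb : b * a⁻¹ ∈ B.nonunits) :
    a + b ∉ B := by
  have ha0 : a ≠ 0 := fun h => ha (h ▸ zero_mem B)
  obtain ⟨hq, hqm⟩ := ValuationSubring.mem_nonunits_iff_exists_mem_maximalIdeal.mp hb
  have hu : IsUnit (1 + (⟨b * a⁻¹, hq⟩ : B)) := by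
    refine (IsLocalRing.isUnit_or_isUnit_of_add_one (a := 1 + (⟨b * a⁻¹, hq⟩ : B))
      (b := -⟨b * a⁻¹, hq⟩) (by ring)).resolve_right ?_
    rw [IsUnit.neg_iff]
    exact (IsLocalRing.mem_maximalIdeal _).mp hqm
  obtain ⟨c, hc⟩ := isUnit_iff_exists_inv.mp hu
  have hc' : (1 + b * a⁻¹) * (c : K) = 1 := congrArg Subtype.val hc
  intro h
  apply ha
  have hane : a = (a + b) * c := by
    calc a = a * ((1 + b * a⁻¹) * c) := by rw [hc', mul_one]
      _ = _ := by field_simp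
  rw [hane]
  exact mul_mem h c.2

lemma exists_pow_mul_mem (B : ValuationSubring K) [IsDiscreteValuationRing B] (w : B) (hw : w ≠ 0)
    (hwm : w ∈ IsLocalRing.maximalIdeal B) (x : K) : ∃ N : ℕ, x * (w : K) ^ N ∈ B := by
  obtain ⟨π, hπ⟩ := IsDiscreteValuationRing.exists_irreducible B
  obtain ⟨y, z, hz, rfl⟩ := IsFractionRing.div_surjective (A := B) x
  obtain ⟨m, ε, hε⟩ := IsDiscreteValuationRing.eq_unit_mul_pow_irreducible
    (nonZeroDivisors.ne_zero hz) hπ
  obtain ⟨a, ε', hε'⟩ := IsDiscreteValuationRing.eq_unit_mul_pow_irreducible hw hπ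
  have ha : 1 ≤ a := by
    rcases Nat.eq_zero_or_pos a with rfl | h
    · exact absurd (by simp [hε']) ((IsLocalRing.mem_maximalIdeal _).mp hwm)
    · exact h
  obtain ⟨q, hq⟩ : z ∣ w ^ m := by
    rw [hε, Units.mul_left_dvd, hε', mul_pow, ← pow_mul]
    exact Dvd.dvd.mul_left (pow_dvd_pow _ (Nat.le_mul_of_pos_left m ha)) _
  refine ⟨m, ?_⟩
  have hz0 : (z : K) ≠ 0 := fun h => nonZeroDivisors.ne_zero hz (Subtype.ext h)
  have : (w : K) ^ m = z * q := congrArg Subtype.val hq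
  change (y : K) / z * (w : K) ^ m ∈ B
  rw [this, div_mul_eq_mul_div, ← mul_assoc, mul_comm (y : K) z, mul_assoc,
    mul_div_cancel_left₀ _ hz0]
  exact mul_mem y.2 q.2

lemma exists_pow_mul_mem_of_jacobson (A : Subring K) [IsFractionRing A K] [Ring.KrullDimLE 1 A]
    (t : A) (ht : ∀ M : Ideal A, M.IsMaximal → t ∈ M) (x : K) :
    ∃ N : ℕ, x * (t : K) ^ N ∈ A := by
  obtain ⟨y, z, hz, rfl⟩ := IsFractionRing.div_surjective (A := A) x
  have hz0 : z ≠ 0 := nonZeroDivisors.ne_zero hz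
  obtain ⟨N, hN⟩ : t ∈ (Ideal.span {z}).radical := by
    rw [Ideal.radical_eq_sInf, Submodule.mem_sInf]
    rintro (P : Ideal A) ⟨hP, hPp⟩
    refine ht P (Ideal.IsPrime.isMaximal_of_ne_bot hPp fun h => hz0 ?_)
    exact (Submodule.mem_bot A).mp (h ▸ hP (Ideal.mem_span_singleton_self z))
  obtain ⟨q, hq⟩ := Ideal.mem_span_singleton.mp hN
  refine ⟨N, ?_⟩
  have hzK : (z : K) ≠ 0 := fun h => hz0 (Subtype.ext h)
  have : (t : K) ^ N = z * q := congrArg Subtype.val hq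
  change (y : K) / z * (t : K) ^ N ∈ A
  rw [this, div_mul_eq_mul_div, ← mul_assoc, mul_comm (y : K) z, mul_assoc,
    mul_div_cancel_left₀ _ hzK]
  exact mul_mem y.2 q.2

lemma exists_mem_all_maximal (A : Type u) [CommRing A] [IsDomain A] [Finite (MaximalSpectrum A)]
    (hnf : ¬ IsField A) : ∃ j : A, (∀ M : Ideal A, M.IsMaximal → j ∈ M) ∧ j ≠ 0 := by
  have := Fintype.ofFinite (MaximalSpectrum A)
  choose g hg hg0 using fun M : MaximalSpectrum A => Submodule.exists_mem_ne_zero_of_ne_bot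
    (Ring.ne_bot_of_isMaximal_of_not_isField M.isMaximal hnf)
  exact ⟨∏ M, g M, fun M hM => Ideal.mem_of_dvd _
    (Finset.dvd_prod_of_mem g (Finset.mem_univ (⟨M, hM⟩ : MaximalSpectrum A))) (hg ⟨M, hM⟩),
    Finset.prod_ne_zero_iff.mpr fun M _ => hg0 M⟩

end Groth.GlueRings
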