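import Mathlib
import Groth.Agent.S7664
import Groth.Agent.GlueRings.Lemmas
import Groth.Agent.Calg4.KrullAkizuki

/-! Units of `A` lying in the Jacobson radical of `B`. Author: helper54. -/

set_option autoImplicit false
universe u

open Pointwise

namespace Groth.GlueRings

variable {K : Type u} [Field K]

section Normalization

variable (B : Subring K) [IsFractionRing B K] [IsNoetherianRing B] [Ring.KrullDimLE 1 B]

lemma length_normalization_quotient {x : B} (hx : x ≠ 0) :
    Module.length B ((integralClosure B K) ⧸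
      Ideal.span {algebraMap B (integralClosure B K) x}) ≠ ⊤ := by
  let j : integralClosure B K →ₗ[B] (Fin 1 → K) :=
    LinearMap.pi fun _ => (integralClosure B K).val.toLinearMap
  have hj : Function.Injective j := fun a b h => Subtype.ext (congrFun h 0)
  have hI : (Ideal.span {algebraMap B (integralClosure B K) x}).restrictScalars B =
      Ideal.span {x} • (⊤ : Submodule B (integralClosure B K)) := by
    rw [Ideal.smul_top_eq_map, Ideal.map_span, Set.image_singleton]
  rw [← (Submodule.Quotient.restrictScalarsEquiv B _).length_eq,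
    (Submodule.quotEquivOfEq _ _ (hI.trans (Submodule.ideal_span_singleton_smul x _))).length_eq]
  exact ne_top_of_le_ne_top
    (WithTop.mul_ne_top (ENat.natCast_ne_top _) (Ring.ord_ne_top (mem_nonZeroDivisors_of_ne_zero hx)))
    (Groth.Calg4.length_quotient_le_mul K _ j hj hx)

lemma exists_mem_base_of_ne_bot (I : Ideal (integralClosure B K)) (hI : I ≠ ⊥) :
    ∃ y : B, y ≠ 0 ∧ algebraMap B (integralClosure B K) y ∈ I := by
  obtain ⟨z, hz, hz0⟩ := Submodule.exists_mem_ne_zero_of_ne_bot hI
  obtain ⟨y, s, hs, hys⟩ := IsFractionRing.div_surjective (A := B) (z : K)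
  change (y : K) / s = z at hys
  have hsK : (s : K) ≠ 0 := fun h => nonZeroDivisors.ne_zero hs (Subtype.ext h)
  refine ⟨y, fun h => hz0 (Subtype.ext (by rw [← hys, h]; simp)), ?_⟩
  have : algebraMap B (integralClosure B K) y = algebraMap B _ s * z := by
    refine Subtype.ext ?_
    show (y : K) = s * z
    rw [← hys, mul_div_cancel₀ _ hsK]
  rw [this]
  exact I.mul_mem_left _ hz

lemma isNoetherianRing_normalization : IsNoetherianRing (integralClosure B K) := by
  rw [isNoetherianRing_iff_ideal_fg]
  intro I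
  by_cases hI : I = ⊥
  · exact hI ▸ Submodule.fg_bot
  obtain ⟨y, hy0, hyI⟩ := exists_mem_base_of_ne_bot B I hI
  set J := Ideal.span {algebraMap B (integralClosure B K) y} with hJ
  obtain ⟨hn, -⟩ := isFiniteLength_iff_isNoetherian_isArtinian.mp
    (Module.length_ne_top_iff.mp (length_normalization_quotient B hy0))
  have : IsNoetherian (integralClosure B K) ((integralClosure B K) ⧸ J) := isNoetherian_of_tower B hn
  refine Submodule.fg_of_fg_map_of_fg_inf_ker (Submodule.mkQ J) (IsNoetherian.noetherian _) ?_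
  rw [Submodule.ker_mkQ, inf_eq_right.mpr ((Ideal.span_singleton_le_iff_mem _).mpr hyI)]
  exact ⟨{algebraMap B (integralClosure B K) y}, by simp [hJ]⟩

lemma isDedekindDomain_normalization : IsDedekindDomain (integralClosure B K) := by
  have := isNoetherianRing_normalization B
  have : Ring.DimensionLEOne B := ⟨fun {p} hp hprime => hprime.isMaximal_of_ne_bot hp⟩
  have : IsIntegrallyClosed (integralClosure B K) :=
    integralClosure.isIntegrallyClosedOfFiniteExtension K
  exact {}

/-- A maximal ideal of the normalization contains every element of `Jac B`. -/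
lemma mem_of_isMaximal (M : Ideal (integralClosure B K)) [M.IsMaximal] (x : B)
    (hx : ∀ P : Ideal B, P.IsMaximal → x ∈ P) : algebraMap B (integralClosure B K) x ∈ M :=
  Ideal.mem_comap.mp (hx _ (Ideal.isMaximal_comap_of_isIntegral_of_isMaximal M))

lemma finite_maximalSpectrum_normalization (x : B) (hx0 : x ≠ 0)
    (hx : ∀ P : Ideal B, P.IsMaximal → x ∈ P) :
    Finite (MaximalSpectrum (integralClosure B K)) := by
  set I := Ideal.span {algebraMap B (integralClosure B K) x}
  obtain ⟨-, ha⟩ := isFiniteLength_iff_isNoetherian_isArtinian.mp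
    (Module.length_ne_top_iff.mp (length_normalization_quotient B hx0))
  have : IsArtinianRing ((integralClosure B K) ⧸ I) := isArtinian_of_tower B ha
  have hle : ∀ M : MaximalSpectrum (integralClosure B K), I ≤ M.asIdeal := fun M => by
    have := M.isMaximal
    exact (Ideal.span_singleton_le_iff_mem _).mpr (mem_of_isMaximal B M.asIdeal x hx)
  have hcm : ∀ M : MaximalSpectrum (integralClosure B K),
      (M.asIdeal.map (Ideal.Quotient.mk I)).comap (Ideal.Quotient.mk I) = M.asIdeal := fun M => by
    rw [Ideal.comap_map_of_surjective _ Ideal.Quotient.mk_surjective, ← RingHom.ker_eq_comap_bot,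
      Ideal.mk_ker, sup_of_le_left (hle M)]
  refine Finite.of_injective (β := MaximalSpectrum ((integralClosure B K) ⧸ I))
    (fun M => ⟨M.asIdeal.map (Ideal.Quotient.mk I), ?_⟩) ?_
  · refine (Ideal.map_eq_top_or_isMaximal_of_surjective _ Ideal.Quotient.mk_surjective
      M.isMaximal).resolve_left fun h => M.isMaximal.ne_top ?_
    rw [← hcm M, h, Ideal.comap_top]
  intro M N h
  refine MaximalSpectrum.ext ?_
  rw [← hcm M, ← hcm N]
  exact congrArg (Ideal.comap (Ideal.Quotient.mk I)) (congrArg MaximalSpectrum.asIdeal h)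

/-- The valuation ring of a maximal ideal of the normalization. -/
lemma exists_valuationSubring (hnf : ¬ IsField (integralClosure B K))
    (M : MaximalSpectrum (integralClosure B K)) :
    ∃ (V : ValuationSubring K) (_ : IsDiscreteValuationRing V),
      (haveI := M.isMaximal.isPrime
       V.toSubring = (Localization.subalgebra.ofField K M.asIdeal.primeCompl
        M.asIdeal.primeCompl_le_nonZeroDivisors).toSubring) := by
  have := isDedekindDomain_normalization B
  have := M.isMaximal.isPrime
  let S := Localization.subalgebra.ofField K M.asIdeal.primeCompl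
    M.asIdeal.primeCompl_le_nonZeroDivisors
  have : IsLocalization.AtPrime S M.asIdeal :=
    Localization.subalgebra.isLocalization_ofField K M.asIdeal.primeCompl
      M.asIdeal.primeCompl_le_nonZeroDivisors
  have hM : M.asIdeal ≠ ⊥ := Ring.ne_bot_of_isMaximal_of_not_isField M.isMaximal hnf
  have hdvr : IsDiscreteValuationRing S :=
    IsLocalization.AtPrime.isDiscreteValuationRing_of_dedekind_domain (integralClosure B K) hM S
  have hval : ∀ x : K, x ∈ S.toSubring ∨ x⁻¹ ∈ S.toSubring := fun x => by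
    rcases ValuationRing.isInteger_or_isInteger S x with ⟨a, ha⟩ | ⟨a, ha⟩
    · exact Or.inl (ha ▸ a.2)
    · exact Or.inr (ha ▸ a.2)
  exact ⟨⟨S.toSubring, hval⟩, hdvr, rfl⟩

end Normalization

/-- One step: given units outside each valuation ring, elements of `A` arbitrarily far outside. -/
lemma exists_mul_not_mem {ι : Type*} (A : Subring K) (V : ι → ValuationSubring K)
    [∀ i, IsDiscreteValuationRing (V i)] (hA : ∀ i, ∃ u ∈ A, u ∉ V i) (S : Finset ι) :
    ∀ g : Finset K, (0 : K) ∉ g → ∃ s ∈ A, ∀ i ∈ S, ∀ x ∈ g, s * x ∉ V i := by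
  classical
  induction S using Finset.induction_on with
  | empty => exact fun g _ => ⟨0, zero_mem A, by simp⟩
  | insert i₀ S hi₀ ih =>
    intro g hg
    obtain ⟨u₀, hu₀A, hu₀⟩ := hA i₀
    obtain ⟨hwV, hwm⟩ := ValuationSubring.mem_nonunits_iff_exists_mem_maximalIdeal.mp
      (mem_max_of_not_mem (V i₀) hu₀)
    have hu₀0 : u₀ ≠ 0 := fun h => hu₀ (h ▸ zero_mem _)
    have hw0 : (⟨u₀⁻¹, hwV⟩ : V i₀) ≠ 0 :=
      fun h => inv_ne_zero hu₀0 (congrArg Subtype.val h)
    choose N hN using fun x : K => exists_pow_mul_mem (V i₀) ⟨u₀⁻¹, hwV⟩ hw0 hwm x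
    set n := ((insert 1 g).sup fun x => N x⁻¹) + 1
    set u := u₀ ^ n with hu
    have huA : u ∈ A := pow_mem hu₀A n
    have hu0 : u ≠ 0 := pow_ne_zero _ hu₀0
    have hux : ∀ x ∈ insert (1 : K) g, u * x ∉ V i₀ := by
      intro x hx h
      have hx0 : x ≠ 0 := by
        rcases Finset.mem_insert.mp hx with rfl | hx'
        · exact one_ne_zero
        · exact fun h0 => hg (h0 ▸ hx')
      obtain ⟨d, hd⟩ : ∃ d, n = N x⁻¹ + d + 1 :=
        ⟨((insert 1 g).sup fun x => N x⁻¹) - N x⁻¹, by
          have := Finset.le_sup (f := fun x => N x⁻¹) hx; omega⟩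
      have hw : (⟨u₀⁻¹, hwV⟩ : V i₀) * ((⟨_, hN x⁻¹⟩ : V i₀) * (⟨u₀⁻¹, hwV⟩ : V i₀) ^ d *
          ⟨_, h⟩) = 1 := by
        refine Subtype.ext ?_
        show u₀⁻¹ * (x⁻¹ * u₀⁻¹ ^ N x⁻¹ * u₀⁻¹ ^ d * (u * x)) = 1
        rw [hu, hd, pow_succ, pow_add, inv_pow, inv_pow]
        field_simp
      exact (IsLocalRing.mem_maximalIdeal _).mp hwm (IsUnit.of_mul_eq_one _ hw)
    have huV : u ∉ V i₀ := by simpa using hux 1 (Finset.mem_insert_self _ _)
    obtain ⟨s, hsA, hs⟩ := ih (insert u⁻¹ (insert (u ^ 2)⁻¹ g)) (by simp [hu0.symm, (pow_ne_zero 2 hu0).symm, hg])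
    -- the choice
    have key : ∀ e, e = u ∨ e = u ^ 2 → ∀ i ∈ S, ∀ x ∈ g, (s + e) * x ∉ V i := by
      intro e he i hi x hx
      have hse : s * e⁻¹ ∉ V i := by rcases he with rfl | rfl <;> exact hs i hi _ (by simp)
      have hsx : s * x ∉ V i := hs i hi _ (by simp [hx])
      have := mem_max_of_not_mem (V i) hse
      rw [add_mul]
      refine add_not_mem (V i) hsx ?_
      have hx0 : x ≠ 0 := fun h0 => hg (h0 ▸ hx)
      have e2 : e * x * (s * x)⁻¹ = (s * e⁻¹)⁻¹ := by field_simp
      rwa [e2]
    obtain ⟨e, he, hgood⟩ : ∃ e, (e = u ∨ e = u ^ 2) ∧ (s + e) * u⁻¹ ∉ (V i₀).nonunits := by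
      by_contra! hcon
      obtain ⟨h1, h1'⟩ := ValuationSubring.mem_nonunits_iff_exists_mem_maximalIdeal.mp
        (hcon u (Or.inl rfl))
      obtain ⟨h2, h2'⟩ := ValuationSubring.mem_nonunits_iff_exists_mem_maximalIdeal.mp
        (hcon (u ^ 2) (Or.inr rfl))
      apply huV
      have e3 : u = (s + u ^ 2) * u⁻¹ - (s + u) * u⁻¹ + 1 := by field_simp; ring
      rw [e3]
      exact add_mem (sub_mem h2 h1) (one_mem _)
    refine ⟨s + e, add_mem hsA ?_, fun i hi x hx => ?_⟩
    · rcases he with rfl | rfl
      · exact huA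
      · exact pow_mem huA 2
    · rcases Finset.mem_insert.mp hi with rfl | hi'
      · intro h
        have hinv : ((s + e) * u⁻¹)⁻¹ ∈ V i := by
          by_contra hc
          exact hgood (by simpa using mem_max_of_not_mem (V i) hc)
        refine hux x (Finset.mem_insert_of_mem hx) ?_
        by_cases h0 : s + e = 0
        · exact absurd (by simp [h0]) hgood
        · have : u * x = ((s + e) * u⁻¹)⁻¹ * ((s + e) * x) := by field_simp
          rw [this]
          exact mul_mem hinv h
      · exact key e he i hi' x hx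

/-- The valuation rings of the normalization of `B`, and descent to `B`. -/
theorem exists_valuations (B : Subring K) [IsFractionRing B K] [IsNoetherianRing B]
    (hdimB : ringKrullDim B = 1) [Finite (MaximalSpectrum B)] :
    ∃ (ι : Type u) (_ : Fintype ι) (V : ι → ValuationSubring K),
      (∀ i, IsDiscreteValuationRing (V i)) ∧ (∀ i, B ≤ (V i).toSubring) ∧
      ∀ w : K, (∀ i, w ∈ (V i).nonunits) → ∃ N : ℕ, ∀ n, N ≤ n →
        ∃ h : w ^ n ∈ B, ∀ M : Ideal B, M.IsMaximal → (⟨w ^ n, h⟩ : B) ∈ M := by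
  classical
  have : Ring.KrullDimLE 1 B := Ring.krullDimLE_iff.mpr hdimB.le
  have hnfB : ¬ IsField B := fun h => by
    rw [ringKrullDim_eq_zero_of_isField h] at hdimB; exact zero_ne_one hdimB
  obtain ⟨x, hx, hx0⟩ := exists_mem_all_maximal B hnfB
  have := finite_maximalSpectrum_normalization B x hx0 hx
  have := Fintype.ofFinite (MaximalSpectrum (integralClosure B K))
  have := isDedekindDomain_normalization B
  have hnf : ¬ IsField (integralClosure B K) := fun h =>
    hnfB (isField_of_isIntegral_of_isField (R := B) (S := integralClosure B K)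
      (fun a b hab => Subtype.ext (show (a : K) = (b : K) from congrArg (fun z : integralClosure B K => (z : K)) hab)) h)
  choose V hdvr hV using exists_valuationSubring B hnf
  have : ∀ i, IsDiscreteValuationRing (V i) := hdvr
  have hBV : ∀ i, ∀ z : integralClosure B K, (z : K) ∈ V i := fun i z => by
    have := i.isMaximal.isPrime
    show (z : K) ∈ (V i).toSubring
    rw [hV i]
    exact Subalgebra.algebraMap_mem _ z
  refine ⟨_, Fintype.ofFinite (MaximalSpectrum (integralClosure B K)), V, hdvr,
    fun i b hb => hBV i ⟨b, isIntegral_algebraMap (x := (⟨b, hb⟩ : B))⟩, fun w hwV => ?_⟩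
  have hwI : w ∈ integralClosure B K := by
    have h : w ∈ (⊥ : Subalgebra (integralClosure B K) K) := by
      rw [← MaximalSpectrum.iInf_localization_eq_bot (integralClosure B K) K, Algebra.mem_iInf]
      intro i
      have := i.isMaximal.isPrime
      have h : w ∈ (V i).toSubring :=
        (ValuationSubring.mem_nonunits_iff_exists_mem_maximalIdeal.mp (hwV i)).1
      rw [hV i] at h
      exact h
    obtain ⟨z, hz⟩ := Algebra.mem_bot.mp h
    exact hz ▸ z.2
  have hwM : ∀ Q : Ideal (integralClosure B K), Q.IsMaximal → ⟨w, hwI⟩ ∈ Q := by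
    intro Q hQ
    by_contra hnot
    let i : MaximalSpectrum (integralClosure B K) := ⟨Q, hQ⟩
    have := i.isMaximal.isPrime
    obtain ⟨hm, hm'⟩ := ValuationSubring.mem_nonunits_iff_exists_mem_maximalIdeal.mp (hwV i)
    let S := Localization.subalgebra.ofField K i.asIdeal.primeCompl
      i.asIdeal.primeCompl_le_nonZeroDivisors
    have : IsLocalization.AtPrime S i.asIdeal :=
      Localization.subalgebra.isLocalization_ofField K i.asIdeal.primeCompl
        i.asIdeal.primeCompl_le_nonZeroDivisors
    obtain ⟨v, hv⟩ := isUnit_iff_exists_inv.mp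
      (IsLocalization.map_units S (⟨⟨w, hwI⟩, hnot⟩ : i.asIdeal.primeCompl))
    have hvV : (v : K) ∈ V i := by
      show (v : K) ∈ (V i).toSubring
      rw [hV i]; exact v.2
    exact (IsLocalRing.mem_maximalIdeal _).mp hm'
      (IsUnit.of_mul_eq_one (⟨_, hvV⟩ : V i) (Subtype.ext (congrArg Subtype.val hv :)))
  -- descend to `B`
  let C : Subalgebra B K := Algebra.adjoin B {w}
  have hCle : C ≤ integralClosure B K := Algebra.adjoin_le (Set.singleton_subset_iff.mpr hwI)
  obtain ⟨T, hT⟩ := IsIntegral.fg_adjoin_singleton (R := B) hwI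
  obtain ⟨c, hc⟩ := IsLocalization.exist_integer_multiples_of_finset (nonZeroDivisors B) T
  have hc0 : (c : B) ≠ 0 := nonZeroDivisors.ne_zero c.2
  have hcC : ∀ z ∈ C, ((c : B) : K) * z ∈ B := by
    intro z hz
    have hz' : z ∈ Submodule.span B (T : Set K) := by rw [hT]; exact hz
    clear hz
    induction hz' using Submodule.span_induction with
    | mem y hy =>
      obtain ⟨b, hb⟩ := hc y hy
      have hb' : (b : K) = ((c : B) : K) * y := hb
      exact hb' ▸ b.2
    | zero => simp
    | add p q _ _ hp hq => rw [mul_add]; exact add_mem hp hq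
    | smul r y _ hy =>
      rw [show ((c : B) : K) * (r • y) = (r : K) * (((c : B) : K) * y) by
        show _ * ((r : K) * y) = _; ring]
      exact mul_mem r.2 hy
  let wC : C := ⟨w, Algebra.self_mem_adjoin_singleton B w⟩
  let : Algebra C (integralClosure B K) := (Subalgebra.inclusion hCle).toRingHom.toAlgebra
  have : IsScalarTower B C (integralClosure B K) := IsScalarTower.of_algebraMap_eq fun _ => rfl
  have : Algebra.IsIntegral C (integralClosure B K) := Algebra.IsIntegral.tower_top B
  obtain ⟨N, hN⟩ : wC ∈ (Ideal.span {algebraMap B C c}).radical := by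
    rw [Ideal.radical_eq_sInf, Submodule.mem_sInf]
    rintro (P : Ideal C) ⟨hP, hPp⟩
    obtain ⟨Q, -, hQ, hQP⟩ := Ideal.exists_ideal_over_prime_of_isIntegral
      (S := integralClosure B K) P ⊥ (by
        intro z hz
        have : (z : K) = 0 := congrArg Subtype.val (show Subalgebra.inclusion hCle z = 0 from hz)
        rw [show z = 0 from Subtype.ext this]; exact P.zero_mem)
    have hcQ : algebraMap B (integralClosure B K) c ∈ Q := by
      have : algebraMap B C c ∈ Q.comap (algebraMap C (integralClosure B K)) :=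
        hQP ▸ hP (Ideal.mem_span_singleton_self _)
      exact this
    have hQne : Q ≠ ⊥ := fun h => hc0 (by
      rw [h, Submodule.mem_bot] at hcQ
      exact Subtype.ext (congrArg Subtype.val hcQ :))
    rw [← hQP]
    exact hwM Q (hQ.isMaximal hQne)
  obtain ⟨q, hq⟩ := Ideal.mem_span_singleton.mp hN
  refine ⟨N + 1, fun n hn => ?_⟩
  have hwB : w ^ n ∈ B := by
    have : w ^ n = ((c : B) : K) * ((q : K) * w ^ (n - N)) := by
      rw [← mul_assoc, ← (show w ^ N = ((c : B) : K) * q from congrArg Subtype.val hq),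
        ← pow_add, show N + (n - N) = n by omega]
    rw [this]
    exact hcC _ (mul_mem q.2 (pow_mem (Algebra.self_mem_adjoin_singleton B w) _))
  refine ⟨hwB, fun M hM => ?_⟩
  obtain ⟨Q, -, hQ, hQM⟩ := Ideal.exists_ideal_over_prime_of_isIntegral
    (S := integralClosure B K) M ⊥ (by
      intro z hz
      have : (z : K) = 0 := congrArg Subtype.val (show algebraMap B (integralClosure B K) z = 0 from hz)
      rw [show z = 0 from Subtype.ext this]; exact M.zero_mem)
  have hQne : Q ≠ ⊥ := fun h => by
    refine hx0 ?_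
    have h1 : x ∈ Q.comap (algebraMap B (integralClosure B K)) := hQM.symm ▸ hx M hM
    rw [Ideal.mem_comap, h, Submodule.mem_bot] at h1
    exact Subtype.ext (congrArg Subtype.val h1 :)
  rw [← hQM, Ideal.mem_comap]
  have : algebraMap B (integralClosure B K) ⟨_, hwB⟩ = ⟨w, hwI⟩ ^ n := Subtype.ext rfl
  rw [this]
  exact Q.pow_mem_of_mem (hwM Q (hQ.isMaximal hQne)) _ (by omega)

/-- A unit of `A` in the nonunits of finitely many valuation rings. -/
theorem exists_unit_nonunits {ι : Type*} [Fintype ι] (A : Subring K) [IsFractionRing A K]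
    [IsNoetherianRing A] (hdimA : ringKrullDim A = 1) [Finite (MaximalSpectrum A)]
    (V : ι → ValuationSubring K) (hdvr : ∀ i, IsDiscreteValuationRing (V i))
    (hgen : ∀ i, A ⊔ (V i).toSubring = ⊤) :
    ∃ w : A, IsUnit w ∧ (w : K) ≠ 0 ∧ ∀ i, (w : K) ∈ (V i).nonunits := by
  classical
  have : ∀ i, IsDiscreteValuationRing (V i) := hdvr
  have hnfA : ¬ IsField A := fun h => by
    rw [ringKrullDim_eq_zero_of_isField h] at hdimA; exact zero_ne_one hdimA
  have hA' : ∀ i, ∃ u ∈ A, u ∉ V i := by
    intro i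
    by_contra! hcon
    exact ((Groth.Agent.S7664.result K A hdimA inferInstance (V i)).2
      fun u _ => hcon u u.2).2 (hgen i)
  obtain ⟨j, hj, hj0⟩ := exists_mem_all_maximal A hnfA
  have hj0' : (j : K) ≠ 0 := fun h => hj0 (Subtype.ext h)
  obtain ⟨s, hsA, hs⟩ := exists_mul_not_mem A V hA' Finset.univ {(j : K)} (by simpa using hj0'.symm)
  have hy : IsUnit (1 + (⟨s, hsA⟩ : A) * j) := by
    by_contra h
    obtain ⟨M, hM, hmem⟩ := exists_max_ideal_of_mem_nonunits h
    have h1 : (1 : A) ∈ M := (Ideal.add_mem_iff_left M (M.mul_mem_left _ (hj M hM))).mp hmem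
    exact hM.ne_top ((Ideal.eq_top_iff_one _).mpr h1)
  obtain ⟨w, hw⟩ := isUnit_iff_exists_inv.mp hy
  have hw' : (1 + s * (j : K)) * (w : K) = 1 := congrArg Subtype.val hw
  have hwinv : (w : K) = (1 + s * (j : K))⁻¹ := (inv_eq_of_mul_eq_one_right hw').symm
  have hwV : ∀ i, (w : K) ∈ (V i).nonunits := fun i => by
    refine hwinv ▸ mem_max_of_not_mem (V i) fun h => hs i (Finset.mem_univ _) j (by simp) ?_
    simpa using sub_mem h (one_mem (V i))
  exact ⟨w, IsUnit.of_mul_eq_one _ ((mul_comm _ _).trans hw), right_ne_zero_of_mul_eq_one hw', hwV⟩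

/-- There is a unit of `A` in the Jacobson radical of `B`. -/
theorem exists_unit_jacobson (A B : Subring K) [IsFractionRing A K] [IsFractionRing B K]
    [IsNoetherianRing A] [IsNoetherianRing B] (hdimA : ringKrullDim A = 1) (hdimB : ringKrullDim B = 1)
    [Finite (MaximalSpectrum A)] [Finite (MaximalSpectrum B)] (hgen : A ⊔ B = ⊤) :
    ∃ (w : K) (hA : w ∈ A) (hB : w ∈ B), w ≠ 0 ∧ IsUnit (⟨w, hA⟩ : A) ∧
      ∀ M : Ideal B, M.IsMaximal → (⟨w, hB⟩ : B) ∈ M := by
  obtain ⟨ι, _, V, hdvr, hBV, hdesc⟩ := exists_valuations B hdimB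
  obtain ⟨w, hwu, hw0, hwV⟩ := exists_unit_nonunits A hdimA V hdvr
    fun i => top_le_iff.mp (hgen ▸ sup_le_sup_left (hBV i) A)
  obtain ⟨N, hN⟩ := hdesc w hwV
  obtain ⟨hB, hM⟩ := hN N le_rfl
  exact ⟨_, pow_mem w.2 N, hB, pow_ne_zero _ hw0, hwu.pow N, hM⟩

end Groth.GlueRings
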